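import Mathlib

/-!
# S5211: the concrete Sylow `p`-subgroup `UG k` of `G₂(k)`

The elements are `n(c, z) · x_a(t)`; `c = (c0, c1, c2, c3)` is a binary cubic form, `Q_b = {t = 0}` is the group
with cocycle `β(c, d) = c0 d3 - 3 c1 d2`. Roots: `t = a`, `c0 = b`, `c1 = a + b`, `c2 = 2a + b`, `c3 = 3a + b`,
`z = 3a + 2b`. Valid in every characteristic.
-/

set_option autoImplicit false

namespace Cfsg.Agent.H647.GS

universe u

/-- the unipotent group -/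
@[ext] structure UG (K : Type u) where
  t : K
  c0 : K
  c1 : K
  c2 : K
  c3 : K
  z : K

namespace UG

variable {K : Type u} [CommRing K]

instance : Mul (UG K) := ⟨fun x y =>
  { t := x.t + y.t
    c0 := x.c0 + y.c0
    c1 := x.c1 + y.c1 + x.t * y.c0
    c2 := x.c2 + y.c2 + 2 * x.t * y.c1 + x.t ^ 2 * y.c0
    c3 := x.c3 + y.c3 + 3 * x.t * y.c2 + 3 * x.t ^ 2 * y.c1 + x.t ^ 3 * y.c0
    z := x.z + y.z - (3 * x.t ^ 2 * y.c0 * y.c1 + 3 * x.t * y.c1 ^ 2 + x.t ^ 3 * y.c0 ^ 2)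
      + x.c0 * (y.c3 + 3 * x.t * y.c2 + 3 * x.t ^ 2 * y.c1 + x.t ^ 3 * y.c0)
      - 3 * x.c1 * (y.c2 + 2 * x.t * y.c1 + x.t ^ 2 * y.c0) }⟩

instance : One (UG K) := ⟨⟨0, 0, 0, 0, 0, 0⟩⟩

theorem mul_t (x y : UG K) : (x * y).t = x.t + y.t := rfl
theorem mul_c0 (x y : UG K) : (x * y).c0 = x.c0 + y.c0 := rfl
theorem mul_c1 (x y : UG K) : (x * y).c1 = x.c1 + y.c1 + x.t * y.c0 := rfl
theorem mul_c2 (x y : UG K) : (x * y).c2 = x.c2 + y.c2 + 2 * x.t * y.c1 + x.t ^ 2 * y.c0 := rfl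
theorem mul_c3 (x y : UG K) : (x * y).c3 =
    x.c3 + y.c3 + 3 * x.t * y.c2 + 3 * x.t ^ 2 * y.c1 + x.t ^ 3 * y.c0 := rfl
theorem mul_z (x y : UG K) : (x * y).z =
    x.z + y.z - (3 * x.t ^ 2 * y.c0 * y.c1 + 3 * x.t * y.c1 ^ 2 + x.t ^ 3 * y.c0 ^ 2)
      + x.c0 * (y.c3 + 3 * x.t * y.c2 + 3 * x.t ^ 2 * y.c1 + x.t ^ 3 * y.c0)
      - 3 * x.c1 * (y.c2 + 2 * x.t * y.c1 + x.t ^ 2 * y.c0) := rfl
@[simp] theorem one_t : (1 : UG K).t = 0 := rfl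
@[simp] theorem one_c0 : (1 : UG K).c0 = 0 := rfl
@[simp] theorem one_c1 : (1 : UG K).c1 = 0 := rfl
@[simp] theorem one_c2 : (1 : UG K).c2 = 0 := rfl
@[simp] theorem one_c3 : (1 : UG K).c3 = 0 := rfl
@[simp] theorem one_z : (1 : UG K).z = 0 := rfl

instance : Inv (UG K) := ⟨fun x =>
  { t := - x.t
    c0 := - x.c0
    c1 := - x.c1 + x.t * x.c0
    c2 := - x.c2 + 2 * x.t * x.c1 - x.t ^ 2 * x.c0
    c3 := - x.c3 + 3 * x.t * x.c2 - 3 * x.t ^ 2 * x.c1 + x.t ^ 3 * x.c0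
    z := - x.z - 3 * x.t ^ 2 * x.c0 * x.c1 + 3 * x.t * x.c1 ^ 2 + x.t ^ 3 * x.c0 ^ 2
      + x.c0 * x.c3 - 3 * x.c1 * x.c2 }⟩

theorem inv_t (x : UG K) : (x⁻¹).t = - x.t := rfl
theorem inv_c0 (x : UG K) : (x⁻¹).c0 = - x.c0 := rfl
theorem inv_c1 (x : UG K) : (x⁻¹).c1 = - x.c1 + x.t * x.c0 := rfl
theorem inv_c2 (x : UG K) : (x⁻¹).c2 = - x.c2 + 2 * x.t * x.c1 - x.t ^ 2 * x.c0 := rfl
theorem inv_c3 (x : UG K) : (x⁻¹).c3 =
    - x.c3 + 3 * x.t * x.c2 - 3 * x.t ^ 2 * x.c1 + x.t ^ 3 * x.c0 := rfl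
theorem inv_z (x : UG K) : (x⁻¹).z =
    - x.z - 3 * x.t ^ 2 * x.c0 * x.c1 + 3 * x.t * x.c1 ^ 2 + x.t ^ 3 * x.c0 ^ 2
      + x.c0 * x.c3 - 3 * x.c1 * x.c2 := rfl

instance : Group (UG K) where
  mul_assoc x y w := by
    ext
    · simp only [mul_t]; ring
    · simp only [mul_c0]; ring
    · simp only [mul_t, mul_c0, mul_c1]; ring
    · simp only [mul_t, mul_c0, mul_c1, mul_c2]; ring
    · simp only [mul_t, mul_c0, mul_c1, mul_c2, mul_c3]; ring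
    · simp only [mul_t, mul_c0, mul_c1, mul_c2, mul_c3, mul_z]; ring
  one_mul x := by
    ext <;> simp [mul_t, mul_c0, mul_c1, mul_c2, mul_c3, mul_z]
  mul_one x := by
    ext <;> simp [mul_t, mul_c0, mul_c1, mul_c2, mul_c3, mul_z]
  inv_mul_cancel x := by
    ext
    · simp only [mul_t, inv_t, one_t]; ring
    · simp only [mul_c0, inv_c0, one_c0]; ring
    · simp only [mul_c1, inv_t, inv_c1, one_c1]; ring
    · simp only [mul_c2, inv_t, inv_c2, one_c2]; ring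
    · simp only [mul_c3, inv_t, inv_c3, one_c3]; ring
    · simp only [mul_z, inv_t, inv_c0, inv_c1, inv_z, one_z]; ring

end UG

end Cfsg.Agent.H647.GS
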